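import Cfsg.Agent.H87.Fi23A.Uniq.Charts
import Cfsg.Agent.H44.M23Uniq.Sixes

/-! A map of the stars of two members of classes of type M(23) that keeps a relation of seven. -/

set_option autoImplicit false
set_option linter.unusedSectionVars false

namespace Cfsg.Agent.H87.Fi23A.Uniq

open Cfsg.Agent Subgroup
open Cfsg.Agent.H43.FischerTwins (Sset sset_stable)
open Cfsg.Agent.H53 (nearImage NearQuot)
open Cfsg.Agent.H17.UPoints (herm herm_zero_comm cube)
open Cfsg.Agent.H43.Polar (IsFrame ev fv vec)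
open Cfsg.Agent.H97.Uniq (Cn Loc Env Pts Good iso_std herm_std mem_cn_of_sset)
open Cfsg.Agent.H44.M23Uniq (sixVec InClass w_ne sixVec_iso sixVec_class exists_scalar perm_of_class inClass_image)

section env

variable {A B : Type*} [Group A] [Group B] [Finite B] {E : Set A}
variable {F : Type} [Field F] [Fintype F] [DecidableEq F] {hF : Fintype.card F = 4}

/-- The working hypotheses of type M(22) over a given field move along isomorphisms. -/
theorem env_map (ψ : A ≃* B) (h22 : Cfsg.IsOfTypeM22 A E) (h : Env E F hF) :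
    Env (ψ '' E) F hF := by
  classical
  haveI : Finite A := Finite.of_injective ψ ψ.injective
  have hC := h.ctx
  have himg : ∀ d, ψ '' Sset E d = Sset (ψ '' E) (ψ d) := by
    intro d
    ext y
    obtain ⟨x, rfl⟩ := ψ.surjective y
    simp [Sset, ψ.injective.mem_set_image, H89.M23.commute_map_iff]
    tauto
  have h22' := H43.M23.m22_map ψ h22
  have hcls := H89.M23.class_map ψ hC.cls
  have hprim := H89.M23.primitive_map ψ hC.prim
  have hiso : ∀ b ∈ ψ '' E, Nonempty (↥(closure (Sset (ψ '' E) b)) ⧸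
      center ↥(closure (Sset (ψ '' E) b)) ≃* Cfsg.PSU 6 F 2) := by
    rintro _ ⟨a, ha, rfl⟩
    obtain ⟨φ⟩ := hC.iso a ha
    obtain ⟨e⟩ := H89.M22.nonempty_quot_center
      (((closure (Sset E a)).equivMapOfInjective ψ.toMonoidHom ψ.injective).trans
        (MulEquiv.subgroupCongr (by rw [MonoidHom.map_closure, MulEquiv.coe_toMonoidHom, himg] :
          (closure (Sset E a)).map ψ.toMonoidHom = closure (Sset (ψ '' E) (ψ a)))))
    exact ⟨e.symm.trans φ⟩
  obtain ⟨hw, F₀, j1, j2, hF₀, -, hnc⟩ := H43.M22.local_facts hcls hprim h22'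
  obtain ⟨hn, hμ⟩ := H43.M22.counts hcls hprim h22'
  refine ⟨⟨hcls, hprim, h22'.1, hC.card, hiso⟩, fun x hx => ?_, fun x hx g hg => ?_, hn, hμ⟩
  · obtain ⟨M⟩ := H43.M22.exists_model hcls hprim hw hF hx (hiso x hx) (hnc x hx)
    exact H97.Uniq.exists_pts (H17.class_group hcls) M
  · exact (H43.M22.centralizer_partners hcls hprim h22' hx).le
      (Subgroup.mem_centralizer_singleton_iff.2 hg.eq.symm)

end env

variable {G : Type*} [Group G] [Finite G] {D : Set G}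

/-- A point model of the common star of `d` and `a`, and in its standard plane two sixes of
products `d` and `a`. -/
structure SixData (D : Set G) (d a : G) (F : Type) [Field F] [Fintype F] [DecidableEq F]
    (hF : Fintype.card F = 4) (w : F) where
  env : Env (Nq D d) F hF
  pts : Pts (Nq D d) (qmap D d a) F hF
  low : (Fin 6 → F) → G
  low_mem : ∀ v, v ≠ 0 → herm v v = 0 → low v ∈ Sset D d ∩ Sset D a
  low_pt : ∀ v, v ≠ 0 → herm v v = 0 → qmap D d (low v) = pts.pt v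
  low_smul : ∀ (c : F) v, c ≠ 0 → v ≠ 0 → herm v v = 0 → low (c • v) = low v
  pd : Fin 3 → F
  pa : Fin 3 → F
  full_d : ∀ k, pd k ≠ 0
  full_a : ∀ k, pa k ≠ 0
  nodup_d : ((sixVec w pd).map low).Nodup
  nodup_a : ((sixVec w pa).map low).Nodup
  comm_d : ∀ y ∈ (sixVec w pd).map low, ∀ z ∈ (sixVec w pd).map low, Commute y z
  comm_a : ∀ y ∈ (sixVec w pa).map low, ∀ z ∈ (sixVec w pa).map low, Commute y z
  prod_d : ((sixVec w pd).map low).prod = d
  prod_a : ((sixVec w pa).map low).prod = a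
  quot_d : ((sixVec w pd).map pts.pt).prod = 1
  differ : pd 0 * pd 1 * pd 2 ≠ pa 0 * pa 1 * pa 2

theorem Hyp.exists_sixData (H : Hyp D) {d a : G} (hd : d ∈ D) (ha : a ∈ Sset D d) :
    ∃ (F : Type) (_ : Field F) (_ : Fintype F) (_ : DecidableEq F) (hF : Fintype.card F = 4)
      (w : F), w + w ^ 2 = 1 ∧ Nonempty (SixData D d a F hF w) := by
  classical
  obtain ⟨F, i1, i2, i3, hF, E⟩ := H.env hd
  obtain ⟨w, -, -, hw⟩ := H43.exists_omega hF
  refine ⟨F, i1, i2, i3, hF, w, hw, ?_⟩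
  obtain ⟨g, hg⟩ := H17.class_transitive H.cls hd ha.1
  obtain ⟨κ, -, hκ⟩ := H89.M23.exists_near_iso (MulAut.conj g) (fun x hx => H.conjD g x hx)
    (show MulAut.conj g d = a from hg)
  have Ea : Env (Nq D a) F hF := by
    have := env_map κ (Fi23A.Near23.localAll H.cls H.prim H.typ hd).2.2 E
    rwa [hκ] at this
  have dA := H.sset_symm hd ha
  obtain ⟨R⟩ := E.models _ (qmap_mem ha)
  let low : (Fin 6 → F) → G := fun v =>
    if h : ∃ y, y ∈ Sset D d ∧ qmap D d y = R.pt v then h.choose else 1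
  have hlow : ∀ v, v ≠ 0 → herm v v = 0 →
      low v ∈ Sset D d ∩ Sset D a ∧ qmap D d (low v) = R.pt v := fun v h0 hv => by
    obtain ⟨y, hy, e⟩ := qmap_surj (R.mem v h0 hv).1
    have h : ∃ y, y ∈ Sset D d ∧ qmap D d y = R.pt v := ⟨y, hy, e⟩
    simp only [low, dif_pos h]
    exact ⟨⟨h.choose_spec.1, (H.qmap_sset hd ha h.choose_spec.1).1
      (by rw [h.choose_spec.2]; exact R.mem v h0 hv)⟩, h.choose_spec.2⟩
  have hsmul : ∀ (c : F) v, c ≠ 0 → v ≠ 0 → herm v v = 0 → low (c • v) = low v := by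
    intro c v hc h0 hv
    have h' : c • v ≠ 0 ∧ herm (c • v) (c • v) = 0 := ⟨smul_ne_zero hc h0, by
      rw [H17.UPoints.herm_smul_left hF, H17.UPoints.herm_smul_right hF, hv]; ring⟩
    refine H.qmap_inj hd (hlow _ h'.1 h'.2).1.1 (hlow v h0 hv).1.1 ?_
    rw [(hlow _ h'.1 h'.2).2, (hlow v h0 hv).2, R.smul c v hc h0 hv]
  obtain ⟨T, LT, hT⟩ := exists_swap H hd ha
  obtain ⟨R₂, hR₂⟩ := exists_transport LT (H17.class_group E.ctx.cls) (qmap_mem ha) R
  have hlow₂ : ∀ v, v ≠ 0 → herm v v = 0 → qmap D a (low v) = R₂.pt v := fun v h0 hv => by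
    rw [hR₂, ← (hlow v h0 hv).2, hT _ (hlow v h0 hv).1.1 (hlow v h0 hv).1.2]
  obtain ⟨p, S⟩ := H97.Uniq.exists_stdSix E hw (qmap_mem ha) R
  obtain ⟨q, S₂⟩ := H97.Uniq.exists_stdSix Ea hw (qmap_mem dA) R₂
  have facts : ∀ {x : G}, x ∈ D → ∀ {l : List (Fin 6 → F)} {pt : (Fin 6 → F) → NearQuot D x},
      l.length = 6 → (∀ v ∈ l, low v ∈ Sset D x) → (∀ v ∈ l, qmap D x (low v) = pt v) →
      (l.map pt).Nodup → (∀ y ∈ l.map pt, ∀ z ∈ l.map pt, Commute y z) → (l.map pt).prod = 1 →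
      (l.map low).Nodup ∧ (∀ y ∈ l.map low, ∀ z ∈ l.map low, Commute y z) ∧
        (l.map low).prod = x := by
    intro x hx l pt hlen hm heq hn hc hp
    have hmap : (l.map low).map (qmap D x) = l.map pt := by
      rw [List.map_map]; exact List.map_congr_left heq
    have hn' : (l.map low).Nodup := List.Nodup.of_map (qmap D x) (hmap ▸ hn)
    have hc' : ∀ y ∈ l.map low, ∀ z ∈ l.map low, Commute y z := by
      intro y hy z hz
      obtain ⟨u, hu, rfl⟩ := List.mem_map.1 hy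
      obtain ⟨v, hv, rfl⟩ := List.mem_map.1 hz
      refine (H.qmap_commute (hm u hu) (hm v hv)).1 ?_
      rw [heq u hu, heq v hv]
      exact hc _ (List.mem_map.2 ⟨u, hu, rfl⟩) _ (List.mem_map.2 ⟨v, hv, rfl⟩)
    refine ⟨hn', hc', ?_⟩
    have hcl : ∀ y ∈ l.map low, y ∈ closure (Sset D x) := fun y hy => by
      obtain ⟨u, hu, rfl⟩ := List.mem_map.1 hy
      exact subset_closure (hm u hu)
    refine (H.eq_of_qmap_one hx (Subgroup.list_prod_mem _ hcl) ?_).resolve_left fun h1 => ?_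
    · rw [qmap_prod _ hcl, hmap, hp]
    · refine Fi23A.Near23.no_six H.cls H.prim H.typ ⟨_, hn', by simp [hlen], fun y hy => ?_, hc', h1⟩
      obtain ⟨u, hu, rfl⟩ := List.mem_map.1 hy
      exact (hm u hu).1
  have ip := sixVec_iso hF hw (p := p) S.full
  have iq := sixVec_iso hF hw (p := q) S₂.full
  obtain ⟨n1, c1, e1⟩ := facts hd (l := sixVec w p) (pt := R.pt) rfl
    (fun v hv => (hlow v (ip v hv).1 (ip v hv).2).1.1) (fun v hv => (hlow v (ip v hv).1 (ip v hv).2).2)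
    S.nodup S.comm S.prod
  obtain ⟨n2, c2, e2⟩ := facts ha.1 (l := sixVec w q) (pt := R₂.pt) rfl
    (fun v hv => (hlow v (iq v hv).1 (iq v hv).2).1.2)
    (fun v hv => hlow₂ v (iq v hv).1 (iq v hv).2) S₂.nodup S₂.comm S₂.prod
  refine ⟨⟨E, R, low, fun v h0 hv => (hlow v h0 hv).1, fun v h0 hv => (hlow v h0 hv).2, hsmul,
    p, q, S.full, S₂.full, n1, n2, c1, c2, e1, e2, S.prod, fun h => ?_⟩⟩
  have hperm : ((sixVec w p).map low).Perm ((sixVec w q).map low) :=
    perm_of_class hF hw hsmul S₂.full rfl n1 fun v hv => h ▸ sixVec_class hF hw S.full v hv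
  exact ha.2.1 (e2.symm.trans ((hperm.prod_eq' (List.pairwise_of_forall_mem_list c1)).symm.trans e1))

/-- A map of stars keeping one relation. -/
structure Good23 {G₂ : Type*} [Group G₂] (D₁ : Set G) (D₂ : Set G₂) (d : G) (d' : G₂)
    (φ : G → G₂) : Prop extends Loc D₁ D₂ d d' φ where
  seven : ∃ a ∈ Sset D₁ d, ∃ l : List G, l.Nodup ∧ l.length = 6 ∧
    (∀ y ∈ l, y ∈ Sset D₁ d ∩ Sset D₁ a) ∧ (∀ y ∈ l, ∀ z ∈ l, Commute y z) ∧
    l.prod = a ∧ (l.map φ).prod = φ a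

/-- The base map. -/
theorem exists_good23 {G₂ : Type*} [Group G₂] [Finite G₂] {D₂ : Set G₂} (H : Hyp D) (H' : Hyp D₂)
    {d : G} {d' : G₂} (hd : d ∈ D) (hd' : d' ∈ D₂) : ∃ φ, Good23 D D₂ d d' φ := by
  classical
  obtain ⟨a, ha⟩ := Set.nonempty_of_ncard_ne_zero
    (show (Sset D d).ncard ≠ 0 by rw [Fi23A.sset_ncard H.cls H.prim H.typ hd]; norm_num)
  obtain ⟨a', ha'⟩ := Set.nonempty_of_ncard_ne_zero
    (show (Sset D₂ d').ncard ≠ 0 by rw [Fi23A.sset_ncard H'.cls H'.prim H'.typ hd']; norm_num)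
  obtain ⟨F, i1, i2, i3, hF, w, hw, ⟨S⟩⟩ := H.exists_sixData hd ha
  obtain ⟨F', j1, j2, j3, hF', w', hw', ⟨S'⟩⟩ := H'.exists_sixData hd' ha'
  obtain ⟨ld, hld⟩ : ∃ t, t = S.pd 0 * S.pd 1 * S.pd 2 := ⟨_, rfl⟩
  obtain ⟨la, hla⟩ : ∃ t, t = S.pa 0 * S.pa 1 * S.pa 2 := ⟨_, rfl⟩
  obtain ⟨md, hmd⟩ : ∃ t, t = S'.pd 0 * S'.pd 1 * S'.pd 2 := ⟨_, rfl⟩
  obtain ⟨ma, hma⟩ : ∃ t, t = S'.pa 0 * S'.pa 1 * S'.pa 2 := ⟨_, rfl⟩
  have hld0 : ld ≠ 0 := hld ▸ mul_ne_zero (mul_ne_zero (S.full_d 0) (S.full_d 1)) (S.full_d 2)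
  have hla0 : la ≠ 0 := hla ▸ mul_ne_zero (mul_ne_zero (S.full_a 0) (S.full_a 1)) (S.full_a 2)
  have hmd0 : md ≠ 0 := hmd ▸ mul_ne_zero (mul_ne_zero (S'.full_d 0) (S'.full_d 1)) (S'.full_d 2)
  have hma0 : ma ≠ 0 := hma ▸ mul_ne_zero (mul_ne_zero (S'.full_a 0) (S'.full_a 1)) (S'.full_a 2)
  have hρ : la / ld + (la / ld) ^ 2 = 1 := by
    rcases H43.Polar.eq_pow hF hw (div_ne_zero hla0 hld0) with h | h | h
    · exact absurd ((div_eq_one_iff_eq hld0).1 h) (by rw [hla, hld]; exact Ne.symm S.differ)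
    · rw [h]; exact hw
    · rw [h]
      linear_combination hw + w * H43.Polar.omega_cube hF hw
  obtain ⟨σ, hσ⟩ := H97.Uniq.exists_iso_field hF hρ hF' (r := ma / md) (div_ne_zero hma0 hmd0)
    (fun h => S'.differ (by rw [← hmd, ← hma]; exact ((div_eq_one_iff_eq hmd0).1 h).symm))
  obtain ⟨c, hc⟩ : ∃ c : Fin 3 → F', c = ![md / σ ld, 1, 1] := ⟨_, rfl⟩
  have hc0 : ∀ k, c k ≠ 0 := fun k => by
    rw [hc]
    fin_cases k
    exacts [div_ne_zero hmd0 ((map_ne_zero σ).2 hld0), one_ne_zero, one_ne_zero]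
  have hC : σ ld * (c 0 * c 1 * c 2) = md := by
    rw [hc]; simp [mul_div_cancel₀ _ ((map_ne_zero σ).2 hld0)]
  have hA : σ la * (c 0 * c 1 * c 2) = ma := by
    have e : σ la = ma / md * σ ld := by
      rw [← hσ, ← map_mul, div_mul_cancel₀ _ hld0]
    rw [e, mul_assoc, hC, div_mul_cancel₀ _ hmd0]
  have hab : IsFrame (fun k => c k • ev w' k) (fun k => c k • fv w' k) := by
    refine ⟨fun i j => ?_, fun i j => ?_, fun i j => ?_⟩ <;>
      simp only [H17.UPoints.herm_smul_left hF', H17.UPoints.herm_smul_right hF',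
        (herm_std hF' hw' i j).1, (herm_std hF' hw' i j).2.1, (herm_std hF' hw' i j).2.2.1, mul_zero]
    rcases eq_or_ne i j with rfl | h
    · rw [if_pos rfl, mul_one, ← cube hF' (hc0 i)]; ring
    · rw [if_neg h, mul_zero, mul_zero]
  obtain ⟨R'', hR''⟩ := S'.pts.exists_move hw' hab
  obtain ⟨χ, L, hχ⟩ := H97.Uniq.exists_loc hw hw' σ (H17.class_group S.env.ctx.cls) (qmap_mem ha)
    (qmap_mem ha') S.pts R''
  -- the images of the members of a class
  have image : ∀ {lam : F} {v : Fin 6 → F}, InClass w lam v → v ≠ 0 → herm v v = 0 →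
      ∃ u, InClass w' (σ lam * (c 0 * c 1 * c 2)) u ∧ u ≠ 0 ∧ herm u u = 0 ∧
        χ (S.pts.pt v) = S'.pts.pt u := by
    intro lam v hv h0 hvv
    obtain ⟨t, u, ht, hu, e⟩ := inClass_image hF hF' hw hw' σ hc0 hv
    have hui : u ≠ 0 ∧ herm u u = 0 := by
      rcases hu with ⟨k, rfl⟩ | ⟨r, hr, -, rfl⟩
      · exact (iso_std hF' hw' k).1
      · exact H43.Polar.iso_x hF' hw' fun h => hr 0 (congrFun h 0)
    refine ⟨u, hu, hui.1, hui.2, ?_⟩
    rw [hχ v h0 hvv, hR'', e, S'.pts.smul t u ht hui.1 hui.2]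
  have hsix : H97.Uniq.Six (Nq D d) (qmap D d a) χ := by
    have ip := sixVec_iso hF hw S.full_d
    have hinj : ∀ u ∈ sixVec w S.pd, ∀ v ∈ sixVec w S.pd, χ (S.pts.pt u) = χ (S.pts.pt v) →
        S.pts.pt u = S.pts.pt v := fun u hu v hv e =>
      L.bij.injOn (mem_cn_of_sset (S.pts.mem u (ip u hu).1 (ip u hu).2))
        (mem_cn_of_sset (S.pts.mem v (ip v hv).1 (ip v hv).2)) e
    have hnd : ((sixVec w S.pd).map S.pts.pt).Nodup := by
      have hm : ((sixVec w S.pd).map S.low).map (qmap D d) = (sixVec w S.pd).map S.pts.pt := by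
        rw [List.map_map]
        exact List.map_congr_left fun v hv => S.low_pt v (ip v hv).1 (ip v hv).2
      rw [← hm]
      refine S.nodup_d.map_on fun y hy z hz e => ?_
      obtain ⟨u, hu, rfl⟩ := List.mem_map.1 hy
      obtain ⟨v, hv, rfl⟩ := List.mem_map.1 hz
      exact H.qmap_inj hd (S.low_mem u (ip u hu).1 (ip u hu).2).1
        (S.low_mem v (ip v hv).1 (ip v hv).2).1 e
    refine H97.Uniq.six_of_one S.env hw (qmap_mem ha) L hnd rfl ?_ ?_ S.quot_d ?_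
    · intro y hy
      obtain ⟨v, hv, rfl⟩ := List.mem_map.1 hy
      exact S.pts.mem v (ip v hv).1 (ip v hv).2
    · intro y hy z hz
      obtain ⟨u, hu, rfl⟩ := List.mem_map.1 hy
      obtain ⟨v, hv, rfl⟩ := List.mem_map.1 hz
      rw [← S.low_pt u (ip u hu).1 (ip u hu).2, ← S.low_pt v (ip v hv).1 (ip v hv).2,
        H.qmap_commute (S.low_mem u (ip u hu).1 (ip u hu).2).1 (S.low_mem v (ip v hv).1 (ip v hv).2).1]
      exact S.comm_d _ (List.mem_map.2 ⟨u, hu, rfl⟩) _ (List.mem_map.2 ⟨v, hv, rfl⟩)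
    · have hu : ∀ v ∈ sixVec w S.pd, ∃ u, InClass w' md u ∧ u ≠ 0 ∧ herm u u = 0 ∧
          χ (S.pts.pt v) = S'.pts.pt u := fun v hv => by
        have := image (sixVec_class hF hw S.full_d v hv) (ip v hv).1 (ip v hv).2
        rwa [← hld, hC] at this
      choose! f hf using hu
      have e1 : ((sixVec w S.pd).map S.pts.pt).map χ = ((sixVec w S.pd).map f).map S'.pts.pt := by
        rw [List.map_map, List.map_map]
        exact List.map_congr_left fun v hv => (hf v hv).2.2.2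
      have hn' : (((sixVec w S.pd).map f).map S'.pts.pt).Nodup := by
        rw [← e1]
        refine hnd.map_on fun y hy z hz e => ?_
        obtain ⟨u, hu, rfl⟩ := List.mem_map.1 hy
        obtain ⟨v, hv, rfl⟩ := List.mem_map.1 hz
        exact hinj u hu v hv e
      have hperm := perm_of_class hF' hw' S'.pts.smul S'.full_d (l := (sixVec w S.pd).map f) rfl hn'
        (fun u hu => by
          obtain ⟨v, hv, rfl⟩ := List.mem_map.1 hu
          exact hmd ▸ (hf v hv).1)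
      have ip' := sixVec_iso hF' hw' S'.full_d
      rw [e1, hperm.prod_eq', S'.quot_d]
      refine List.pairwise_of_forall_mem_list fun y hy z hz => ?_
      obtain ⟨u, hu, rfl⟩ := List.mem_map.1 (hperm.mem_iff.1 hy)
      obtain ⟨v, hv, rfl⟩ := List.mem_map.1 (hperm.mem_iff.1 hz)
      rw [← S'.low_pt u (ip' u hu).1 (ip' u hu).2, ← S'.low_pt v (ip' v hv).1 (ip' v hv).2,
        H'.qmap_commute (S'.low_mem u (ip' u hu).1 (ip' u hu).2).1
          (S'.low_mem v (ip' v hv).1 (ip' v hv).2).1]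
      exact S'.comm_d _ (List.mem_map.2 ⟨u, hu, rfl⟩) _ (List.mem_map.2 ⟨v, hv, rfl⟩)
  obtain ⟨e, he, hea, heχ⟩ := H97.Uniq.m22_extend S.env S'.env (H.center_quot hd)
    (H'.center_quot hd') (qmap_mem ha) (qmap_mem ha') (φ := χ) ⟨L, hsix⟩
  obtain ⟨φ, Lφ, hφ⟩ := exists_lift H H' hd hd' e he
  have hφlow : ∀ v, v ≠ 0 → herm v v = 0 → ∀ u, u ≠ 0 → herm u u = 0 →
      χ (S.pts.pt v) = S'.pts.pt u → φ (S.low v) = S'.low u := by
    intro v h0 hv u g0 hu ev'
    refine H'.qmap_inj hd' (hφ _ (S.low_mem v h0 hv).1).1 (S'.low_mem u g0 hu).1 ?_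
    rw [(hφ _ (S.low_mem v h0 hv).1).2, S.low_pt v h0 hv,
      heχ _ (mem_cn_of_sset (S.pts.mem v h0 hv)), ev', S'.low_pt u g0 hu]
  have hφa : φ a = a' := H'.qmap_inj hd' (hφ a ha).1 ha' ((hφ a ha).2.trans hea)
  have iq := sixVec_iso hF hw S.full_a
  refine ⟨φ, Lφ, a, ha, (sixVec w S.pa).map S.low, S.nodup_a, rfl, ?_, S.comm_a, S.prod_a, ?_⟩
  · intro y hy
    obtain ⟨v, hv, rfl⟩ := List.mem_map.1 hy
    exact S.low_mem v (iq v hv).1 (iq v hv).2
  have hu : ∀ v ∈ sixVec w S.pa, ∃ u, InClass w' ma u ∧ φ (S.low v) = S'.low u := fun v hv => by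
    obtain ⟨u, hu, g0, g1, e'⟩ := image (sixVec_class hF hw S.full_a v hv) (iq v hv).1 (iq v hv).2
    rw [← hla, hA] at hu
    exact ⟨u, hu, hφlow v (iq v hv).1 (iq v hv).2 u g0 g1 e'⟩
  choose! f hf using hu
  have e1 : ((sixVec w S.pa).map S.low).map φ = ((sixVec w S.pa).map f).map S'.low := by
    rw [List.map_map, List.map_map]
    exact List.map_congr_left fun v hv => (hf v hv).2
  have hn' : (((sixVec w S.pa).map f).map S'.low).Nodup := by
    rw [← e1]
    refine S.nodup_a.map_on fun y hy z hz e => ?_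
    obtain ⟨u, hu, rfl⟩ := List.mem_map.1 hy
    obtain ⟨v, hv, rfl⟩ := List.mem_map.1 hz
    exact Lφ.bij.injOn (mem_cn_of_sset (S.low_mem u (iq u hu).1 (iq u hu).2).1)
      (mem_cn_of_sset (S.low_mem v (iq v hv).1 (iq v hv).2).1) e
  have hperm := perm_of_class hF' hw' S'.low_smul S'.full_a (l := (sixVec w S.pa).map f) rfl hn'
    (fun u hu => by
      obtain ⟨v, hv, rfl⟩ := List.mem_map.1 hu
      exact hma ▸ (hf v hv).1)
  rw [e1, hperm.prod_eq' (List.pairwise_of_forall_mem_list fun y hy z hz =>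
    S'.comm_a y (hperm.mem_iff.1 hy) z (hperm.mem_iff.1 hz)), S'.prod_a, hφa]

end Cfsg.Agent.H87.Fi23A.Uniq
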