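import Cfsg.Agent.H87.Fi23A.Uniq.Near

/-! Maps of stars of type M(23) seen in the quotients around members, and the transport of point
models along maps of stars. -/

set_option autoImplicit false
set_option linter.unusedSectionVars false

namespace Cfsg.Agent.H87.Fi23A.Uniq

open Cfsg.Agent Subgroup
open Cfsg.Agent.H43.FischerTwins (Sset sset_stable)
open Cfsg.Agent.H53 (nearImage NearQuot)
open Cfsg.Agent.H97.Uniq (Cn Loc Pts cn_conj mem_cn_of_sset)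

section stars

variable {G₁ G₂ : Type*} [Group G₁] [Group G₂] [Finite G₁] [Finite G₂] {D₁ : Set G₁} {D₂ : Set G₂}
variable {x : G₁} {x' : G₂} {ψ : G₁ → G₂}

/-- An isomorphism of stars is equivariant, the conjugating element being generated by partners. -/
theorem equivariant_mem (L : Loc D₁ D₂ x x' ψ) (h₁ : Cfsg.IsThreeTranspositionGroup D₁)
    (hx : x ∈ D₁) {h : G₁} (hh : h ∈ closure (Sset D₁ x)) :
    ∃ h' ∈ closure (Sset D₂ x'), ∀ z ∈ Cn D₁ x,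
      h * z * h⁻¹ ∈ Cn D₁ x ∧ ψ (h * z * h⁻¹) = h' * ψ z * h'⁻¹ := by
  induction hh using Subgroup.closure_induction with
  | mem u hu =>
    exact ⟨ψ u, subset_closure (H97.Uniq.Loc.sset L hx hu), fun z hz =>
      ⟨cn_conj h₁.2.1 (mem_cn_of_sset hu) hz, L.conj u (mem_cn_of_sset hu) z hz⟩⟩
  | one => exact ⟨1, one_mem _, fun z hz => by simpa using hz⟩
  | mul a b _ _ iha ihb =>
    obtain ⟨a', ma', ha⟩ := iha
    obtain ⟨b', mb', hb⟩ := ihb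
    refine ⟨a' * b', mul_mem ma' mb', fun z hz => ?_⟩
    obtain ⟨m, e⟩ := ha _ (hb z hz).1
    rw [show a * b * z * (a * b)⁻¹ = a * (b * z * b⁻¹) * a⁻¹ by group]
    exact ⟨m, by rw [e, (hb z hz).2]; group⟩
  | inv a hm iha =>
    obtain ⟨a', ma', ha⟩ := iha
    refine ⟨a'⁻¹, inv_mem ma', fun z hz => ?_⟩
    have hax : Commute x a := H43.M22.nearGen_commute hm
    have hz' : a⁻¹ * z * a⁻¹⁻¹ ∈ Cn D₁ x :=
      ⟨h₁.2.1 _ z hz.1, (hax.inv_right.mul_right hz.2).mul_right hax.inv_right.inv_right⟩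
    refine ⟨hz', ?_⟩
    have e := (ha _ hz').2
    rw [show a * (a⁻¹ * z * a⁻¹⁻¹) * a⁻¹ = z by group] at e
    rw [e]; group

/-- A point model carried along an isomorphism of stars. -/
theorem exists_transport {F : Type} [Field F] [Fintype F] [DecidableEq F] {hF : Fintype.card F = 4}
    (L : Loc D₁ D₂ x x' ψ) (h₁ : Cfsg.IsThreeTranspositionGroup D₁) (hx : x ∈ D₁)
    (R : Pts D₁ x F hF) : ∃ R' : Pts D₂ x' F hF, ∀ v, R'.pt v = ψ (R.pt v) := by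
  have cn : ∀ v, v ≠ 0 → H17.UPoints.herm v v = 0 → R.pt v ∈ Cn D₁ x := fun v a b =>
    mem_cn_of_sset (R.mem v a b)
  refine ⟨{
    pt := fun v => ψ (R.pt v)
    mem := fun v a b => H97.Uniq.Loc.sset L hx (R.mem v a b)
    surj := fun y hy => ?_
    inj := fun u v a b c e h => R.inj u v a b c e (L.bij.injOn (cn u a b) (cn v c e) h)
    smul := fun a v ha hv hvv => by rw [R.smul a v ha hv hvv]
    commute := fun u v a b c e =>
      (L.comm _ (cn u a b) _ (cn v c e)).trans (R.commute u v a b c e)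
    conj := fun u v a b c e => by rw [← L.conj _ (cn u a b) _ (cn v c e), R.conj u v a b c e]
    lift := fun g => ?_ }, fun _ => rfl⟩
  · obtain ⟨z, hz, rfl⟩ := L.bij.surjOn (mem_cn_of_sset hy)
    obtain ⟨v, a, b, e⟩ := R.surj z ⟨hz.1, fun q => hy.2.1 (by rw [q, L.base]), hz.2⟩
    exact ⟨v, a, b, by rw [e]⟩
  · obtain ⟨h, hh, e⟩ := R.lift g
    obtain ⟨h', hh', e'⟩ := equivariant_mem L h₁ hx hh
    exact ⟨h', hh', fun v a b => by
      rw [← (e' _ (cn v a b)).2, e v a b]⟩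

end stars

variable {G₁ G₂ : Type*} [Group G₁] [Group G₂] [Finite G₁] [Finite G₂] {D₁ : Set G₁} {D₂ : Set G₂}

/-- A map of two common stars seen in the quotients. -/
theorem exists_toQuot (H : Hyp D₁) (H' : Hyp D₂) {x y : G₁} {x' y' : G₂} (hy : y ∈ Sset D₁ x)
    (hy' : y' ∈ Sset D₂ x') (hx : x ∈ D₁) (hx' : x' ∈ D₂) {ψ : G₁ → G₂}
    (hbij : Set.BijOn ψ (Cn D₁ x ∩ Cn D₁ y) (Cn D₂ x' ∩ Cn D₂ y')) (hψx : ψ x = x')
    (hψy : ψ y = y')
    (hcomm : ∀ u ∈ Cn D₁ x ∩ Cn D₁ y, ∀ v ∈ Cn D₁ x ∩ Cn D₁ y,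
      (Commute (ψ u) (ψ v) ↔ Commute u v))
    (hconj : ∀ u ∈ Cn D₁ x ∩ Cn D₁ y, ∀ v ∈ Cn D₁ x ∩ Cn D₁ y,
      ψ (u * v * u⁻¹) = ψ u * ψ v * (ψ u)⁻¹) :
    ∃ Ψ, Loc (Nq D₁ x) (Nq D₂ x') (qmap D₁ x y) (qmap D₂ x' y') Ψ ∧
      ∀ z ∈ Sset D₁ x ∩ Cn D₁ y, ψ z ∈ Sset D₂ x' ∧ Ψ (qmap D₁ x z) = qmap D₂ x' (ψ z) := by
  classical
  have xP : x ∈ Cn D₁ x ∩ Cn D₁ y := ⟨⟨hx, Commute.refl x⟩, hx, hy.2.2.symm⟩
  have inP : ∀ {z}, z ∈ Sset D₁ x ∩ Cn D₁ y → z ∈ Cn D₁ x ∩ Cn D₁ y := fun hz =>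
    ⟨mem_cn_of_sset hz.1, hz.2⟩
  have img : ∀ z ∈ Sset D₁ x ∩ Cn D₁ y, ψ z ∈ Sset D₂ x' := fun z hz =>
    ⟨(hbij.mapsTo (inP hz)).1.1,
      fun e => hz.1.2.1 (hbij.injOn (inP hz) xP (e.trans hψx.symm)), (hbij.mapsTo (inP hz)).1.2⟩
  let Ψ : NearQuot D₁ x → NearQuot D₂ x' := fun q =>
    if h : ∃ z, z ∈ Sset D₁ x ∧ qmap D₁ x z = q then qmap D₂ x' (ψ h.choose) else 1
  have hΨ : ∀ z ∈ Sset D₁ x, Ψ (qmap D₁ x z) = qmap D₂ x' (ψ z) := fun z hz => by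
    have h : ∃ u, u ∈ Sset D₁ x ∧ qmap D₁ x u = qmap D₁ x z := ⟨z, hz, rfl⟩
    show (if h : ∃ u, u ∈ Sset D₁ x ∧ qmap D₁ x u = qmap D₁ x z then _ else _) = _
    rw [dif_pos h, H.qmap_inj hx h.choose_spec.1 hz h.choose_spec.2]
  have pre : ∀ q ∈ Cn (Nq D₁ x) (qmap D₁ x y), ∃ z ∈ Sset D₁ x ∩ Cn D₁ y, qmap D₁ x z = q := by
    rintro q hq
    obtain ⟨z, hz, rfl⟩ := qmap_surj hq.1
    exact ⟨z, ⟨hz, (H.qmap_cn hx hy hz).1 hq⟩, rfl⟩
  refine ⟨Ψ, ⟨⟨?_, ?_, ?_⟩, by rw [hΨ y hy, hψy], ?_, ?_⟩, fun z hz => ⟨img z hz, hΨ z hz.1⟩⟩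
  · intro q hq
    obtain ⟨z, hz, rfl⟩ := pre q hq
    rw [hΨ z hz.1]
    exact (H'.qmap_cn hx' hy' (img z hz)).2 (hbij.mapsTo (inP hz)).2
  · intro q hq r hr e
    obtain ⟨z, hz, rfl⟩ := pre q hq
    obtain ⟨t, ht, rfl⟩ := pre r hr
    rw [hΨ z hz.1, hΨ t ht.1] at e
    rw [hbij.injOn (inP hz) (inP ht) (H'.qmap_inj hx' (img z hz) (img t ht) e)]
  · intro q hq
    obtain ⟨z', hz', rfl⟩ := qmap_surj hq.1
    obtain ⟨z, hz, rfl⟩ := hbij.surjOn ⟨mem_cn_of_sset hz', (H'.qmap_cn hx' hy' hz').1 hq⟩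
    have hzS : z ∈ Sset D₁ x := ⟨hz.1.1, fun e => hz'.2.1 (by rw [e, hψx]), hz.1.2⟩
    exact ⟨qmap D₁ x z, (H.qmap_cn hx hy hzS).2 hz.2, hΨ z hzS⟩
  · intro q hq r hr
    obtain ⟨z, hz, rfl⟩ := pre q hq
    obtain ⟨t, ht, rfl⟩ := pre r hr
    rw [hΨ z hz.1, hΨ t ht.1, H'.qmap_commute (img z hz) (img t ht), H.qmap_commute hz.1 ht.1]
    exact hcomm z (inP hz) t (inP ht)
  · intro q hq r hr
    obtain ⟨z, hz, rfl⟩ := pre q hq
    obtain ⟨t, ht, rfl⟩ := pre r hr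
    have hzt : z * t * z⁻¹ ∈ Sset D₁ x := sset_stable H.grp x hz.1 ht.1
    rw [← qmap_conj (subset_closure hz.1) (subset_closure ht.1), hΨ _ hzt,
      hconj z (inP hz) t (inP ht),
      qmap_conj (subset_closure (img z hz)) (subset_closure (img t ht)), hΨ z hz.1, hΨ t ht.1]

/-- An isomorphism of the quotients lifts to the stars. -/
theorem exists_lift (H : Hyp D₁) (H' : Hyp D₂) {d : G₁} {d' : G₂} (hd : d ∈ D₁) (hd' : d' ∈ D₂)
    (e : NearQuot D₁ d ≃* NearQuot D₂ d') (he : e '' Nq D₁ d = Nq D₂ d') :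
    ∃ φ, Loc D₁ D₂ d d' φ ∧
      ∀ z ∈ Sset D₁ d, φ z ∈ Sset D₂ d' ∧ qmap D₂ d' (φ z) = e (qmap D₁ d z) := by
  classical
  let φ : G₁ → G₂ := fun z =>
    if h : ∃ u, u ∈ Sset D₂ d' ∧ z ∈ Sset D₁ d ∧ qmap D₂ d' u = e (qmap D₁ d z) then h.choose
    else d'
  have hφ : ∀ z ∈ Sset D₁ d, φ z ∈ Sset D₂ d' ∧ qmap D₂ d' (φ z) = e (qmap D₁ d z) := fun z hz => by
    have h : ∃ u, u ∈ Sset D₂ d' ∧ z ∈ Sset D₁ d ∧ qmap D₂ d' u = e (qmap D₁ d z) := by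
      obtain ⟨u, hu, e'⟩ := qmap_surj (D := D₂) (x := d') (he ▸ ⟨_, qmap_mem hz, rfl⟩ :
        e (qmap D₁ d z) ∈ Nq D₂ d')
      exact ⟨u, hu, hz, e'⟩
    show (if h : _ then _ else _) ∈ _ ∧ qmap D₂ d' (if h : _ then _ else _) = _
    rw [dif_pos h]
    exact ⟨h.choose_spec.1, h.choose_spec.2.2⟩
  have hφd : φ d = d' := dif_neg fun ⟨_, _, h, _⟩ => h.2.1 rfl
  have cases : ∀ z ∈ Cn D₁ d, z = d ∨ z ∈ Sset D₁ d := fun z hz =>
    (em (z = d)).imp id fun h => ⟨hz.1, h, hz.2⟩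
  refine ⟨φ, ⟨⟨?_, ?_, ?_⟩, hφd, ?_, ?_⟩, hφ⟩
  · intro z hz
    rcases cases z hz with rfl | h
    · rw [hφd]; exact ⟨hd', Commute.refl _⟩
    · exact mem_cn_of_sset (hφ z h).1
  · intro z hz t ht e'
    rcases cases z hz with rfl | h <;> rcases cases t ht with rfl | h'
    · rfl
    · rw [hφd] at e'; exact absurd e'.symm (hφ t h').1.2.1
    · rw [hφd] at e'; exact absurd e' (hφ z h).1.2.1
    · refine H.qmap_inj hd h h' (e.injective ?_)
      rw [← (hφ z h).2, ← (hφ t h').2, e']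
  · intro u hu
    by_cases h : u = d'
    · exact ⟨d, ⟨hd, Commute.refl d⟩, hφd.trans h.symm⟩
    have hu' : u ∈ Sset D₂ d' := ⟨hu.1, h, hu.2⟩
    obtain ⟨q, hq, hqu⟩ := (he.symm ▸ qmap_mem hu' : qmap D₂ d' u ∈ e '' Nq D₁ d)
    obtain ⟨z, hz, rfl⟩ := qmap_surj hq
    exact ⟨z, mem_cn_of_sset hz,
      H'.qmap_inj hd' (hφ z hz).1 hu' ((hφ z hz).2.trans hqu)⟩
  · intro z hz t ht
    rcases cases z hz with rfl | h <;> rcases cases t ht with rfl | h'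
    · exact iff_of_true (Commute.refl _) (Commute.refl _)
    · rw [hφd]; exact iff_of_true (hφ t h').1.2.2 h'.2.2
    · rw [hφd]; exact iff_of_true (hφ z h).1.2.2.symm h.2.2.symm
    · rw [← H'.qmap_commute (hφ z h).1 (hφ t h').1, (hφ z h).2, (hφ t h').2,
        H89.M23.commute_map_iff, H.qmap_commute h h']
  · intro z hz t ht
    rcases cases z hz with rfl | h <;> rcases cases t ht with rfl | h'
    · simp [hφd]
    · rw [h'.2.2.eq, mul_inv_cancel_right, hφd, (hφ t h').1.2.2.eq, mul_inv_cancel_right]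
    · rw [← h.2.2.eq, mul_inv_cancel_right, hφd, ← (hφ z h).1.2.2.eq, mul_inv_cancel_right]
    · have hzt : z * t * z⁻¹ ∈ Sset D₁ d := sset_stable H.grp d h h'
      refine H'.qmap_inj hd' (hφ _ hzt).1 (sset_stable H'.grp d' (hφ z h).1 (hφ t h').1) ?_
      rw [(hφ _ hzt).2, qmap_conj (subset_closure h) (subset_closure h'), map_mul, map_mul, map_inv,
        qmap_conj (subset_closure (hφ z h).1) (subset_closure (hφ t h').1), (hφ z h).2, (hφ t h').2]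

/-- Exchanging two members leaves their common star in place. -/
theorem exists_swap (H : Hyp D₁) {d a : G₁} (hd : d ∈ D₁) (ha : a ∈ Sset D₁ d) :
    ∃ Ψ, Loc (Nq D₁ d) (Nq D₁ a) (qmap D₁ d a) (qmap D₁ a d) Ψ ∧
      ∀ z ∈ Sset D₁ d, z ∈ Sset D₁ a → Ψ (qmap D₁ d z) = qmap D₁ a z := by
  classical
  have dA := H.sset_symm hd ha
  have key : ∀ {z}, z ∈ Cn D₁ d ∩ Cn D₁ a → Equiv.swap a d z ∈ Cn D₁ a ∩ Cn D₁ d := by
    intro z hz
    rcases eq_or_ne z a with rfl | h1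
    · rw [Equiv.swap_apply_left]; exact ⟨mem_cn_of_sset dA, hd, Commute.refl d⟩
    rcases eq_or_ne z d with rfl | h2
    · rw [Equiv.swap_apply_right]; exact ⟨⟨ha.1, Commute.refl a⟩, mem_cn_of_sset ha⟩
    rw [Equiv.swap_apply_of_ne_of_ne h1 h2]; exact ⟨hz.2, hz.1⟩
  have cd : ∀ {z}, z ∈ Cn D₁ d ∩ Cn D₁ a → ∀ u, u = a ∨ u = d → Commute u z := by
    rintro z hz u (rfl | rfl)
    exacts [hz.2.2, hz.1.2]
  obtain ⟨Ψ, L, hΨ⟩ := exists_toQuot H H ha dA hd ha.1 (ψ := Equiv.swap a d)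
    (hbij := ⟨fun z hz => key hz, (Equiv.injective _).injOn, fun z hz => ⟨Equiv.swap a d z, by
      exact ⟨(key ⟨hz.2, hz.1⟩).2, (key ⟨hz.2, hz.1⟩).1⟩, Equiv.swap_apply_self a d z⟩⟩)
    (Equiv.swap_apply_right a d) (Equiv.swap_apply_left a d)
    (fun u hu v hv => by
      by_cases h : (u = a ∨ u = d) ∨ (v = a ∨ v = d)
      · refine iff_of_true ?_ (h.elim (fun h => cd hv u h) fun h => (cd hu v h).symm)
        have hk := key hu
        have hk' := key hv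
        rcases h with (rfl | rfl) | (rfl | rfl)
        · rw [Equiv.swap_apply_left]; exact hk'.2.2
        · rw [Equiv.swap_apply_right]; exact hk'.1.2
        · rw [Equiv.swap_apply_left]; exact hk.2.2.symm
        · rw [Equiv.swap_apply_right]; exact hk.1.2.symm
      · push Not at h
        rw [Equiv.swap_apply_of_ne_of_ne h.1.1 h.1.2, Equiv.swap_apply_of_ne_of_ne h.2.1 h.2.2])
    (fun u hu v hv => by
      by_cases hcv : Commute u v
      · rw [hcv.eq, mul_inv_cancel_right]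
        have hk := key hu
        have hk' := key hv
        have hc : Commute (Equiv.swap a d u) (Equiv.swap a d v) := by
          rcases eq_or_ne u a with rfl | h1
          · rw [Equiv.swap_apply_left]; exact hk'.2.2
          rcases eq_or_ne u d with rfl | h2
          · rw [Equiv.swap_apply_right]; exact hk'.1.2
          rw [Equiv.swap_apply_of_ne_of_ne h1 h2]
          rcases eq_or_ne v a with rfl | h3
          · rw [Equiv.swap_apply_left]; exact hu.1.2.symm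
          rcases eq_or_ne v d with rfl | h4
          · rw [Equiv.swap_apply_right]; exact hu.2.2.symm
          rw [Equiv.swap_apply_of_ne_of_ne h3 h4]; exact hcv
        rw [hc.eq, mul_inv_cancel_right]
      have hu' : u ≠ a ∧ u ≠ d := ⟨fun e => hcv (e ▸ hv.2.2), fun e => hcv (e ▸ hv.1.2)⟩
      have hv' : v ≠ a ∧ v ≠ d := ⟨fun e => hcv (e ▸ hu.2.2.symm), fun e => hcv (e ▸ hu.1.2.symm)⟩
      have ne : ∀ c, (c = a ∨ c = d) → u * v * u⁻¹ ≠ c := fun c hc e => hcv (by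
        have h1 : u * v = c * u := mul_inv_eq_iff_eq_mul.1 e
        rw [(cd hu c hc).eq] at h1
        rw [mul_left_cancel h1]
        exact (cd hu c hc).symm)
      rw [Equiv.swap_apply_of_ne_of_ne hu'.1 hu'.2, Equiv.swap_apply_of_ne_of_ne hv'.1 hv'.2,
        Equiv.swap_apply_of_ne_of_ne (ne a (Or.inl rfl)) (ne d (Or.inr rfl))])
  refine ⟨Ψ, L, fun z hz hz' => ?_⟩
  rw [(hΨ z ⟨hz, mem_cn_of_sset hz'⟩).2, Equiv.swap_apply_of_ne_of_ne hz'.2.1 hz.2.1]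

end Cfsg.Agent.H87.Fi23A.Uniq
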