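import Cfsg.Agent.H87.Fi23A.Uniq.Near
import Cfsg.Agent.H44.M23Uniq.Count

/-! The incidence facts of type M(23) used by the gluing. -/

set_option autoImplicit false
set_option linter.unusedSectionVars false

namespace Cfsg.Agent.H87.Fi23A.Uniq

open Cfsg.Agent Subgroup
open Cfsg.Agent.H43.FischerTwins (Sset sset_stable)
open Cfsg.Agent.H17.UPoints (herm herm_zero_comm)
open Cfsg.Agent.H43.Polar (ev fv)
open Cfsg.Agent.H97.Uniq (Cn Env Pts Far3 iso_std herm_std)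
open Cfsg.Agent.H44.M23Uniq (connected_of_degree exists_seen)

section pts

variable {Q : Type*} [Group Q] [Finite Q] {E : Set Q} {x : Q} {F : Type} [Field F] [Fintype F]
  [DecidableEq F] {hF : Fintype.card F = 4}

/-- A partner far from `d` commuting with another partner `z ≠ d`. -/
theorem exists_far_at (R : Pts E x F hF) {d z : Q} (hd : d ∈ Sset E x) (hz : z ∈ Sset E x)
    (hne : d ≠ z) : ∃ t ∈ Sset E x, Commute z t ∧ ¬ Commute d t := by
  obtain ⟨w, -, -, hw⟩ := H43.exists_omega hF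
  by_cases hdz : Commute d z
  swap
  · exact ⟨z, hz, Commute.refl z, hdz⟩
  obtain ⟨R, rfl, rfl⟩ := R.exists_at_line hw hd hz hdz hne
  have h0 := iso_std hF hw 0
  have h1 := (iso_std hF hw 1).1
  refine ⟨R.pt (fv w 0), R.mem _ h0.2.1 h0.2.2,
    (R.commute _ _ h1.1 h1.2 h0.2.1 h0.2.2).2 ?_, fun h => ?_⟩
  · rw [(herm_std hF hw 1 0).2.2.1, if_neg (by decide)]
  · have h' := (R.commute _ _ h0.1.1 h0.1.2 h0.2.1 h0.2.2).1 h
    rw [(herm_std hF hw 0 0).2.2.1, if_pos rfl] at h'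
    exact one_ne_zero h'

/-- A partner far from `d`. -/
theorem exists_far_one (R : Pts E x F hF) {d : Q} (hd : d ∈ Sset E x) :
    ∃ t ∈ Sset E x, ¬ Commute d t := by
  obtain ⟨w, -, -, hw⟩ := H43.exists_omega hF
  obtain ⟨R, rfl⟩ := R.exists_at hw hd
  have h0 := iso_std hF hw 0
  refine ⟨R.pt (fv w 0), R.mem _ h0.2.1 h0.2.2, fun h => ?_⟩
  have h' := (R.commute _ _ h0.1.1 h0.1.2 h0.2.1 h0.2.2).1 h
  rw [(herm_std hF hw 0 0).2.2.1, if_pos rfl] at h'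
  exact one_ne_zero h'

end pts

variable {G : Type*} [Group G] [Finite G] {D : Set G}

namespace Hyp

variable (H : Hyp D)
include H

theorem card : D.ncard = 31671 := (Fi23A.counts H.cls H.prim H.typ).1

theorem mu : ∀ a ∈ D, ∀ b ∈ D, ¬ Commute a b → (Sset D a ∩ Sset D b).ncard = 351 :=
  fun a ha b hb hab => by
    rw [← H43.M22.common_far_eq hab]
    exact (Fi23A.counts H.cls H.prim H.typ).2 a ha b hb hab

theorem degree {d c : G} (hd : d ∈ D) (hc : c ∈ D) (hdc : ¬ Commute d c) {x : G}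
    (hx : x ∈ Sset D d ∩ Sset D c) : (Sset D x ∩ (Sset D d ∩ Sset D c)).ncard = 126 := by
  rw [← Fi23A.far_ncard H.cls H.prim H.typ hx.1.1 (H.sset_symm hd hx.1) (H.sset_symm hc hx.2)
    hdc]
  congr 1
  ext y
  constructor
  · exact fun h => ⟨h.1, h.2.1.2.2, h.2.2.2.2⟩
  · exact fun h => ⟨h.1, ⟨h.1.1, fun e => hdc (e ▸ h.2.2.symm), h.2.1⟩, h.1.1,
      fun e => hdc (e ▸ h.2.1), h.2.2⟩

theorem conn {d c : G} (hd : d ∈ D) (hc : c ∈ D) (hdc : ¬ Commute d c) (K : Set G)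
    (hK : K ⊆ Sset D d ∩ Sset D c) (hne : K.Nonempty)
    (hcl : ∀ a ∈ K, ∀ b ∈ Sset D d ∩ Sset D c, Commute a b → b ∈ K) :
    Sset D d ∩ Sset D c ⊆ K :=
  connected_of_degree H.grp (X := Sset D d ∩ Sset D c) (fun y hy => hy.1.1)
    (fun a ha y hy => ⟨sset_stable H.grp d ha.1 hy.1, sset_stable H.grp c ha.2 hy.2⟩) (k := 126)
    (fun a ha => (H.degree hd hc hdc ha).ge) (by rw [H.mu d hd c hc hdc]; norm_num) hK hne hcl

theorem meet {d c e : G} (hd : d ∈ D) (hc : c ∈ D) (he : e ∈ D) (hdc : ¬ Commute d c)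
    (hde : ¬ Commute d e) (hce : Commute c e) :
    ∃ x ∈ Sset D d, Commute x c ∧ Commute x e := by
  classical
  have hμ := H.mu d hd c hc hdc
  by_cases hec : e = c
  · obtain ⟨x, hx⟩ := Set.nonempty_of_ncard_ne_zero
      (show (Sset D d ∩ Sset D c).ncard ≠ 0 by rw [hμ]; norm_num)
    exact ⟨x, hx.1, hx.2.2.2.symm, hec ▸ hx.2.2.2.symm⟩
  haveI : Fintype G := Fintype.ofFinite G
  let r : G → G → Prop := fun a b => a ≠ b ∧ Commute a b
  have hX : ∀ x ∈ (Sset D d ∩ Sset D c).toFinset, x ∈ Sset D c := fun x hx =>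
    (Set.mem_toFinset.1 hx).2
  obtain ⟨F, i1, i2, i3, hF, E⟩ := H.env hc
  have h := exists_seen (Sset D c).toFinset (Sset D d ∩ Sset D c).toFinset
    (Set.toFinset_subset_toFinset.2 Set.inter_subset_right) r (n := 351) (K := 693) (k := 126)
    (l := 180) (μ := 126) (by rw [← Set.ncard_eq_toFinset_card']; exact hμ)
    (fun x hx => by
      rw [← Fi23A.near_ncard H.cls H.prim H.typ hc (hX x hx), Set.ncard_eq_toFinset_card']
      congr 1; ext y
      simp only [r, Finset.mem_filter, Set.mem_toFinset, Set.mem_setOf_eq]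
      exact ⟨fun h => ⟨h.1, h.2.1, h.2.2.symm⟩, fun h => ⟨h.1, h.2.1, h.2.2.symm⟩⟩)
    (fun x hx => by
      have hx' := Set.mem_toFinset.1 hx
      rw [← H.degree hd hc hdc hx', Set.ncard_eq_toFinset_card']
      congr 1; ext y
      simp only [r, Finset.mem_filter, Set.mem_toFinset, Set.mem_inter_iff]
      exact ⟨fun h => ⟨⟨h.1.1.1, h.2.1, h.2.2.symm⟩, h.1⟩,
        fun h => ⟨h.2, h.1.2.1, h.1.2.2.symm⟩⟩)
    (fun x _ y _ h => ⟨h.1.symm, h.2.symm⟩) (fun x _ h => h.1 rfl)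
    (fun x hx y hy hxy => by
      have ha := hX x hx
      have hb := hX y hy
      have hy' : y ∈ Sset D x := ⟨hb.1, hxy.1.symm, hxy.2⟩
      obtain ⟨h1, h2, h3⟩ := Fi23A.Near23.localAll H.cls H.prim H.typ hc
      have h180 := H43.M22.near_ncard h1 h2 h3 (qmap_mem ha) ((H.qmap_sset hc ha hb).2 hy')
      have himg : {z | z ∈ Sset (Nq D c) (qmap D c x) ∧ z ≠ qmap D c y ∧
          Commute (qmap D c y) z} =
          qmap D c '' {e | e ∈ Sset D c ∧ (e ≠ x ∧ Commute e x) ∧ e ≠ y ∧ Commute e y} := by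
        ext z
        constructor
        · rintro ⟨hz, hne, hcm⟩
          obtain ⟨e, he', rfl⟩ := qmap_surj hz.1
          have h' := (H.qmap_sset hc ha he').1 hz
          exact ⟨e, ⟨he', ⟨h'.2.1, h'.2.2.symm⟩, fun q => hne (q ▸ rfl),
            ((H.qmap_commute hb he').1 hcm).symm⟩, rfl⟩
        · rintro ⟨e, ⟨he', ⟨n1, c1⟩, n2, c2⟩, rfl⟩
          exact ⟨(H.qmap_sset hc ha he').2 ⟨he'.1, n1, c1.symm⟩,
            fun q => n2 (H.qmap_inj hc he' hb q), (H.qmap_commute hb he').2 c2.symm⟩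
      rw [himg, H.qmap_ncard hc (fun z hz => hz.1)] at h180
      rw [← h180, Set.ncard_eq_toFinset_card']
      congr 1; ext e'
      simp only [r, Finset.mem_filter, Set.mem_toFinset, Set.mem_setOf_eq])
    (fun x hx y hy hne hxy => by
      have hnc : ¬ Commute x y := fun h => hxy ⟨hne, h⟩
      rw [← Fi23A.far_ncard H.cls H.prim H.typ hc (hX x hx) (hX y hy) hnc,
        Set.ncard_eq_toFinset_card']
      congr 1; ext e'
      simp only [r, Finset.mem_filter, Set.mem_toFinset, Set.mem_setOf_eq]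
      exact ⟨fun h => ⟨h.1, h.2.1.2.symm, h.2.2.2.symm⟩,
        fun h => ⟨h.1, ⟨fun q => hnc (q ▸ h.2.2).symm, h.2.1.symm⟩,
          fun q => hnc (q ▸ h.2.1), h.2.2.symm⟩⟩)
    (c := 63) (by norm_num)
    (by rw [← Set.ncard_eq_toFinset_card', Fi23A.sset_ncard H.cls H.prim H.typ hc]; norm_num)
    e (Set.mem_toFinset.2 ⟨he, hec, hce⟩) fun h => hde (Set.mem_toFinset.1 h).1.2.2
  obtain ⟨x, hx, -, hex⟩ := h
  have hx' := Set.mem_toFinset.1 hx
  exact ⟨x, hx'.1, hx'.2.2.2.symm, hex.symm⟩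

theorem third {a b : G} (ha : a ∈ D) (hb : b ∈ D) (hab : ¬ Commute a b) {z : G} (hz : z ∈ D)
    (h : ∀ t ∈ D, Commute a t → Commute b t → Commute z t) :
    z = a ∨ z = b ∨ z = a * b * a⁻¹ := by
  have hμ := H.mu a ha b hb hab
  obtain ⟨x, hx, hxz⟩ := Set.exists_ne_of_one_lt_ncard
    (show 1 < (Sset D a ∩ Sset D b).ncard by rw [hμ]; norm_num) z
  have hxD := hx.1.1
  have aX := H.sset_symm ha hx.1
  have bX := H.sset_symm hb hx.2
  have zX : z ∈ Sset D x := ⟨hz, hxz.symm, (h x hxD hx.1.2.2 hx.2.2.2).symm⟩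
  have hab' : a * b * a⁻¹ ∈ Sset D x := sset_stable H.grp x aX bX
  obtain ⟨F, i1, i2, i3, hF, E⟩ := H.env hxD
  rcases E.third (qmap_mem aX) (qmap_mem bX) (fun q => hab ((H.qmap_commute aX bX).1 q))
    (qmap_mem zX) (fun t ht h1 h2 => by
      obtain ⟨t, ht', rfl⟩ := qmap_surj ht
      exact (H.qmap_commute zX ht').2
        (h t ht'.1 ((H.qmap_commute aX ht').1 h1) ((H.qmap_commute bX ht').1 h2)))
    with e | e | e
  · exact Or.inl (H.qmap_inj hxD zX aX e)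
  · exact Or.inr (Or.inl (H.qmap_inj hxD zX bX e))
  · rw [← qmap_conj (subset_closure aX) (subset_closure bX)] at e
    exact Or.inr (Or.inr (H.qmap_inj hxD zX hab' e))

theorem mid {d a x : G} (hd : d ∈ D) (ha : a ∈ Sset D d) (hx : x ∈ Sset D d)
    (hax : ¬ Commute a x) :
    (∃ m ∈ Sset D d, Commute a m ∧ Commute x m) ∧
    ∀ K : Set G, K ⊆ Sset D d ∩ (Sset D a ∩ Sset D x) → K.Nonempty →
      (∀ u ∈ K, ∀ v ∈ Sset D d ∩ (Sset D a ∩ Sset D x), Commute u v → v ∈ K) →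
      Sset D d ∩ (Sset D a ∩ Sset D x) ⊆ K := by
  obtain ⟨F, i1, i2, i3, hF, E⟩ := H.env hd
  have hnc : ¬ Commute (qmap D d a) (qmap D d x) := fun q => hax ((H.qmap_commute ha hx).1 q)
  have hcm := H.qmap_common hd ha hx
  constructor
  · obtain ⟨z, hz⟩ := Set.nonempty_of_ncard_ne_zero
      (show (Sset (Nq D d) (qmap D d a) ∩ Sset (Nq D d) (qmap D d x)).ncard ≠ 0 by
        rw [E.mu _ (qmap_mem ha) _ (qmap_mem hx) hnc]; norm_num)
    rw [hcm] at hz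
    obtain ⟨m, hm, -⟩ := hz
    exact ⟨m, hm.1, hm.2.1.2.2, hm.2.2.2.2⟩
  intro K hK hne hcl y hy
  have h := E.conn (qmap_mem ha) (qmap_mem hx) hnc (qmap D d '' K)
    (by rw [hcm]; exact Set.image_mono hK) (hne.image _) fun u hu v hv huv => by
      obtain ⟨u, hu, rfl⟩ := hu
      rw [hcm] at hv
      obtain ⟨v, hv, rfl⟩ := hv
      exact ⟨v, hcl u hu v hv ((H.qmap_commute (hK hu).1 hv.1).1 huv), rfl⟩
  rw [hcm] at h
  obtain ⟨y', hy', e⟩ := h ⟨y, hy, rfl⟩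
  exact H.qmap_inj hd (hK hy').1 hy.1 e ▸ hy'

theorem cross {d a x y : G} (hd : d ∈ D) (ha : a ∈ Sset D d) (hx : x ∈ Sset D d)
    (hy : y ∈ Sset D d) (hxy : Commute x y) :
    ∃ w ∈ Sset D d, Commute a w ∧ Commute x w ∧ Commute y w := by
  by_cases hax : Commute a x
  · exact ⟨x, hx, hax, Commute.refl x, hxy.symm⟩
  by_cases hay : Commute a y
  · exact ⟨y, hy, hay, hxy, Commute.refl y⟩
  obtain ⟨F, i1, i2, i3, hF, E⟩ := H.env hd
  obtain ⟨z, hz, h1, h2⟩ := E.meet (qmap_mem ha) (qmap_mem hx) (qmap_mem hy)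
    (fun q => hax ((H.qmap_commute ha hx).1 q)) (fun q => hay ((H.qmap_commute ha hy).1 q))
    ((H.qmap_commute hx hy).2 hxy)
  obtain ⟨w, hw, rfl⟩ := qmap_surj hz.1
  exact ⟨w, hw, ((H.qmap_commute ha hw).1 hz.2.2), ((H.qmap_commute hw hx).1 h1).symm,
    ((H.qmap_commute hw hy).1 h2).symm⟩

/-- A common neighbour far from `d`. -/
theorem far_point {d x y z : G} (hd : d ∈ D) (hx : x ∈ Sset D d) (hy : y ∈ Sset D d)
    (hxy : Commute x y) (hne : x ≠ y)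
    (hz : z ∈ Sset D x ∧ z ∈ Sset D y ∧ z ≠ d) : Far3 D d x y z := by
  obtain ⟨F, i1, i2, i3, hF, E⟩ := H.env hx.1
  have yX : y ∈ Sset D x := ⟨hy.1, hne.symm, hxy⟩
  have dX := H.sset_symm hd hx
  obtain ⟨R⟩ := E.models _ (qmap_mem yX)
  obtain ⟨t, ht, h1, h2⟩ := exists_far_at R
    ((H.qmap_sset hx.1 yX dX).2 (H.sset_symm hd hy)) ((H.qmap_sset hx.1 yX hz.1).2 hz.2.1)
    (fun q => hz.2.2 (H.qmap_inj hx.1 dX hz.1 q).symm)
  obtain ⟨q, hq, rfl⟩ := qmap_surj ht.1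
  exact ⟨q, hq.1, hq.2.2, ((H.qmap_sset hx.1 yX hq).1 ht).2.2, (H.qmap_commute hz.1 hq).1 h1,
    fun c => h2 ((H.qmap_commute dX hq).2 c)⟩

theorem far {d x y : G} (hd : d ∈ D) (hx : x ∈ Sset D d) (hy : y ∈ Sset D d)
    (hxy : Commute x y) : ∃ q ∈ D, Commute x q ∧ Commute y q ∧ ¬ Commute d q := by
  obtain ⟨y', hy', hxy', hne⟩ : ∃ y' ∈ Sset D d, Commute x y' ∧ x ≠ y' ∧ (y = x ∨ y = y') := by
    by_cases h : x = y
    · subst h
      obtain ⟨y', h1, h2, h3⟩ := Set.nonempty_of_ncard_ne_zero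
        (show ({z | z ∈ Sset D d ∧ z ≠ x ∧ Commute x z}).ncard ≠ 0 by
          rw [Fi23A.near_ncard H.cls H.prim H.typ hd hx]; norm_num)
      exact ⟨y', h1, h3, h2.symm, Or.inl rfl⟩
    · exact ⟨y, hy, hxy, h, Or.inr rfl⟩
  obtain ⟨F, i1, i2, i3, hF, E⟩ := H.env hx.1
  have yX : y' ∈ Sset D x := ⟨hy'.1, hne.1.symm, hxy'⟩
  have dX := H.sset_symm hd hx
  obtain ⟨R⟩ := E.models _ (qmap_mem yX)
  obtain ⟨t, ht, h2⟩ := exists_far_one R ((H.qmap_sset hx.1 yX dX).2 (H.sset_symm hd hy'))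
  obtain ⟨q, hq, rfl⟩ := qmap_surj ht.1
  refine ⟨q, hq.1, hq.2.2, ?_, fun c => h2 ((H.qmap_commute dX hq).2 c)⟩
  rcases hne.2 with rfl | rfl
  · exact hq.2.2
  · exact ((H.qmap_sset hx.1 yX hq).1 ht).2.2

theorem tri {d x y z : G} (hd : d ∈ D) (hx : x ∈ Sset D d) (hy : y ∈ Sset D d)
    (hz : z ∈ Sset D d) (hxy : Commute x y) (hxz : Commute x z) (hyz : Commute y z)
    (nxy : x ≠ y) (nxz : x ≠ z) (nyz : y ≠ z) : Far3 D d x y z :=
  H.far_point hd hx hy hxy nxy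
    ⟨⟨hz.1, nxz.symm, hxz⟩, ⟨hz.1, nyz.symm, hyz⟩, hz.2.1⟩

end Hyp

end Cfsg.Agent.H87.Fi23A.Uniq
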