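import Cfsg.Agent.H87.Fi23A.Near23
import Cfsg.Agent.H97.Uniq.M22

/-! Passing between the members commuting with a member of a class of type M(23) and the class of
type M(22) of the quotient around it. -/

set_option autoImplicit false
set_option linter.unusedSectionVars false

namespace Cfsg.Agent.H87.Fi23A.Uniq

open Cfsg.Agent Subgroup
open Cfsg.Agent.H43.FischerTwins (Sset sub_group mk_inj mk_commute sset_stable commute_coe)
open Cfsg.Agent.H53 (nearImage NearQuot)
open Cfsg.Agent.H97.Uniq (Cn Loc Env)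

variable {G : Type*} [Group G] [Finite G] {D : Set G}

/-- The standing hypotheses. -/
structure Hyp (D : Set G) : Prop where
  cls : Cfsg.IsThreeTranspositionClass D
  prim : Cfsg.IsPrimitiveUnderConj D
  typ : Fi23A.Near23 D

/-- The class around `x` as a set in the quotient. -/
abbrev Nq (D : Set G) (x : G) : Set (NearQuot D x) := nearImage D x

open Classical in
/-- The map to the quotient around `x`. -/
noncomputable def qmap (D : Set G) (x g : G) : NearQuot D x :=
  if h : g ∈ closure (Sset D x) then QuotientGroup.mk (⟨g, h⟩ : ↥(closure (Sset D x))) else 1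

theorem qmap_of_mem {x g : G} (h : g ∈ closure (Sset D x)) :
    qmap D x g = QuotientGroup.mk (⟨g, h⟩ : ↥(closure (Sset D x))) := dif_pos h

theorem qmap_mul {x g k : G} (hg : g ∈ closure (Sset D x)) (hk : k ∈ closure (Sset D x)) :
    qmap D x (g * k) = qmap D x g * qmap D x k := by
  rw [qmap_of_mem hg, qmap_of_mem hk, qmap_of_mem (mul_mem hg hk)]
  rfl

theorem qmap_inv {x g : G} (hg : g ∈ closure (Sset D x)) : qmap D x g⁻¹ = (qmap D x g)⁻¹ := by
  rw [qmap_of_mem hg, qmap_of_mem (inv_mem hg)]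
  rfl

theorem qmap_one {x : G} : qmap D x 1 = 1 := by
  rw [qmap_of_mem (one_mem _)]
  rfl

theorem qmap_conj {x g k : G} (hg : g ∈ closure (Sset D x)) (hk : k ∈ closure (Sset D x)) :
    qmap D x (g * k * g⁻¹) = qmap D x g * qmap D x k * (qmap D x g)⁻¹ := by
  rw [qmap_mul (mul_mem hg hk) (inv_mem hg), qmap_mul hg hk, qmap_inv hg]

theorem qmap_prod {x : G} : ∀ l : List G, (∀ y ∈ l, y ∈ closure (Sset D x)) →
    qmap D x l.prod = (l.map (qmap D x)).prod
  | [], _ => by simp [qmap_one]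
  | y :: l, h => by
    have hl : ∀ z ∈ l, z ∈ closure (Sset D x) := fun z hz => h z (List.mem_cons_of_mem _ hz)
    rw [List.prod_cons, List.map_cons, List.prod_cons,
      qmap_mul (h y (by simp)) (Subgroup.list_prod_mem _ hl), qmap_prod l hl]

theorem qmap_surj {x : G} {z : NearQuot D x} (hz : z ∈ Nq D x) :
    ∃ y ∈ Sset D x, qmap D x y = z := by
  obtain ⟨⟨y, hy⟩, hy', rfl⟩ := hz
  exact ⟨y, hy', qmap_of_mem hy⟩

theorem qmap_mem {x y : G} (hy : y ∈ Sset D x) : qmap D x y ∈ Nq D x := by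
  rw [qmap_of_mem (subset_closure hy)]
  exact ⟨_, hy, rfl⟩

namespace Hyp

variable (H : Hyp D)
include H

theorem grp : Cfsg.IsThreeTranspositionGroup D := H17.class_group H.cls

theorem conjD : ∀ g : G, ∀ d ∈ D, g * d * g⁻¹ ∈ D := H17.class_conj H.cls

theorem env {x : G} (hx : x ∈ D) :
    ∃ (F : Type) (_ : Field F) (_ : Fintype F) (_ : DecidableEq F) (hF : Fintype.card F = 4),
      Env (Nq D x) F hF := by
  obtain ⟨h1, h2, h3⟩ := Fi23A.Near23.localAll H.cls H.prim H.typ hx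
  exact H97.Uniq.exists_env (H17.class_group h1) h2 h3

theorem center_quot {x : G} (hx : x ∈ D) : center (NearQuot D x) = ⊥ :=
  (Fi23A.Near23.localAll H.cls H.prim H.typ hx).2.2.1

theorem self_mem {x : G} (hx : x ∈ D) : x ∈ closure (Sset D x) :=
  (Fi23A.Near23.self H.cls H.prim H.typ hx).mem

theorem qmap_self {x : G} (hx : x ∈ D) : qmap D x x = 1 := by
  rw [qmap_of_mem (H.self_mem hx), QuotientGroup.eq_one_iff]
  exact mem_center_iff.2 fun y => Subtype.ext (H43.M22.nearGen_commute y.2).symm.eq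

theorem eq_of_qmap_one {x g : G} (hx : x ∈ D) (hg : g ∈ closure (Sset D x))
    (h : qmap D x g = 1) : g = 1 ∨ g = x := by
  rw [qmap_of_mem hg, QuotientGroup.eq_one_iff] at h
  exact Fi23A.Near23.centerNear H.cls H.prim H.typ hx _ h

theorem sub_grp (x : G) : Cfsg.IsThreeTranspositionGroup
    {y : ↥(closure (Sset D x)) | (y : G) ∈ Sset D x} :=
  sub_group H.grp (Sset D x) (fun _ hy => hy.1) fun _ hs _ ht => sset_stable H.grp x hs ht

theorem qmap_inj {x a b : G} (hx : x ∈ D) (ha : a ∈ Sset D x) (hb : b ∈ Sset D x)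
    (h : qmap D x a = qmap D x b) : a = b := by
  rw [qmap_of_mem (subset_closure ha), qmap_of_mem (subset_closure hb)] at h
  exact congrArg Subtype.val (mk_inj (H.sub_grp x) (x := ⟨a, subset_closure ha⟩) ha hb
    ((Fi23A.Near23.subs H.cls H.prim H.typ x hx).nc ha) h)

theorem qmap_commute {x a b : G} (ha : a ∈ Sset D x) (hb : b ∈ Sset D x) :
    Commute (qmap D x a) (qmap D x b) ↔ Commute a b := by
  rw [qmap_of_mem (subset_closure ha), qmap_of_mem (subset_closure hb)]
  exact (mk_commute (H.sub_grp x) (x := ⟨a, subset_closure ha⟩) (y := ⟨b, subset_closure hb⟩)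
    ha hb).trans commute_coe.symm

/-- Partners of two members correspond. -/
theorem qmap_sset {x a b : G} (hx : x ∈ D) (ha : a ∈ Sset D x) (hb : b ∈ Sset D x) :
    qmap D x b ∈ Sset (Nq D x) (qmap D x a) ↔ b ∈ Sset D a := by
  constructor
  · exact fun h => ⟨hb.1, fun e => h.2.1 (e ▸ rfl), (H.qmap_commute ha hb).1 h.2.2⟩
  · exact fun h => ⟨qmap_mem hb, fun e => h.2.1 (H.qmap_inj hx hb ha e),
      (H.qmap_commute ha hb).2 h.2.2⟩

theorem qmap_cn {x a b : G} (hx : x ∈ D) (ha : a ∈ Sset D x) (hb : b ∈ Sset D x) :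
    qmap D x b ∈ Cn (Nq D x) (qmap D x a) ↔ b ∈ Cn D a :=
  ⟨fun h => ⟨hb.1, (H.qmap_commute ha hb).1 h.2⟩,
    fun h => ⟨qmap_mem hb, (H.qmap_commute ha hb).2 h.2⟩⟩

/-- The image of a set of partners. -/
theorem qmap_ncard {x : G} (hx : x ∈ D) {X : Set G} (hX : X ⊆ Sset D x) :
    (qmap D x '' X).ncard = X.ncard :=
  Set.InjOn.ncard_image fun _ ha _ hb h => H.qmap_inj hx (hX ha) (hX hb) h

/-- The common partners of two partners, as seen in the quotient. -/
theorem qmap_common {x a b : G} (hx : x ∈ D) (ha : a ∈ Sset D x) (hb : b ∈ Sset D x) :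
    Sset (Nq D x) (qmap D x a) ∩ Sset (Nq D x) (qmap D x b) =
      qmap D x '' (Sset D x ∩ (Sset D a ∩ Sset D b)) := by
  ext z
  constructor
  · rintro ⟨h1, h2⟩
    obtain ⟨y, hy, rfl⟩ := qmap_surj h1.1
    exact ⟨y, ⟨hy, (H.qmap_sset hx ha hy).1 h1, (H.qmap_sset hx hb hy).1 h2⟩, rfl⟩
  · rintro ⟨y, ⟨hy, h1, h2⟩, rfl⟩
    exact ⟨(H.qmap_sset hx ha hy).2 h1, (H.qmap_sset hx hb hy).2 h2⟩

theorem qmap_sset_image {x a : G} (hx : x ∈ D) (ha : a ∈ Sset D x) :
    Sset (Nq D x) (qmap D x a) = qmap D x '' (Sset D x ∩ Sset D a) := by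
  ext z
  constructor
  · intro h1
    obtain ⟨y, hy, rfl⟩ := qmap_surj h1.1
    exact ⟨y, ⟨hy, (H.qmap_sset hx ha hy).1 h1⟩, rfl⟩
  · rintro ⟨y, ⟨hy, h1⟩, rfl⟩
    exact (H.qmap_sset hx ha hy).2 h1

theorem sset_symm {a b : G} (hb : b ∈ D) (h : a ∈ Sset D b) : b ∈ Sset D a :=
  ⟨hb, h.2.1.symm, h.2.2.symm⟩

end Hyp

end Cfsg.Agent.H87.Fi23A.Uniq
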